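import Cfsg.Agent.H794.XZ.Row
import Cfsg.Agent.H139.XZ.Lab

/-!
# S4933, label route, box KV (helper531): the value of the form with the trivial label

* `kap` : the character `X (k, c) ↦ 1 / |η_k|` (`c` a `p`-character of level `k`, zero otherwise) of the ring;
* `form_tau_row` : `form (tauP x) (S0 n (row m n)) = kap x` for `x` of weight `n`;
* `kap_row_ne`, `kap_hk_ne` : the values at the labels of the partitions `(k)` and `(p, 1)` on the orbit of a label of order
  `p` do not vanish;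
* `form_two_row_ne`, `form_two_hk_ne` : the same for the labels `two`.
-/

set_option autoImplicit false

open scoped ComplexConjugate

namespace Cfsg.Agent.H531.HT

open MvPolynomial
open Cfsg.Agent.H577.GLB.Std
open Cfsg.Agent.H614
open Cfsg.Agent.H614.GLn (SS hh hh_zero hh_rec ZV ZV_map ZV_congr mul_SS SS_alt two_torsion_alg)
open Cfsg.Agent.H614.GLn.RSt
open Cfsg.Agent.H794.XZ (row S0 SS_row Dv_row U0 SS_mem_U0 Pw_zero_eq canon_zero' zero_mem_repsZ)

/-! ### the form with the complete symmetric function -/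

section form

variable {Q : ℤ} {M : ℕ}

/-- the value on the unipotent variables -/
noncomputable def ev1 (M : ℕ) : RS M →ₐ[ℂ] ℂ := by
  classical exact aeval fun v : Var M => if 0 < v.1 ∧ v.2 = 0 then 1 else 0

theorem ev1_X (v : Var M) [Decidable (0 < v.1 ∧ v.2 = 0)] : ev1 M (X v) = if 0 < v.1 ∧ v.2 = 0 then 1 else 0 := by
  rw [ev1, aeval_X]
  congr

variable [NeZero M]

/-- the derivations with respect to the other variables -/
theorem Dv_U0 (hQ : IsUnit (Q : ZMod M)) {v : Var M} (hv : ¬ (0 < v.1 ∧ v.2 = 0)) {x : RS M} (hx : x ∈ U0 Q M) :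
    Dv Q M v x = 0 := by
  classical
  have h := Derivation.eqOn_adjoin (R := ℂ) (D1 := Dv Q M v) (D2 := 0)
    (s := Set.range fun j : ℕ => Pw Q M j (0 : ZMod M)) ?_ hx
  · exact h
  · rintro _ ⟨j, rfl⟩
    dsimp only
    rcases Nat.eq_zero_or_pos j with rfl | hj
    · rw [Pw, rv, if_neg (by simp), map_zero, map_zero]
    · rw [Pw_zero_eq hQ hj, Dv_apply, pderiv_X, Pi.single_eq_of_ne, smul_zero]
      · rfl
      · intro h
        apply hv
        rw [← h]
        exact ⟨hj, rfl⟩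

theorem form_row_monomial (hQ : IsUnit (Q : ZMod M)) {m : ℕ} (hm : 0 < m) (d : ℕ) : ∀ (s : Var M →₀ ℕ) (n : ℕ),
    (s.sum fun _ k => k) = d → Finsupp.weight (fun v : Var M => v.1) s = n →
      form Q M (monomial s 1) (S0 Q M n (row m n)) = ev1 M (monomial s 1) := by
  classical
  induction d with
  | zero =>
    intro s n hd hn
    have hs : s = 0 := by
      ext v
      by_contra hv
      have h1 : v ∈ s.support := Finsupp.mem_support_iff.2 hv
      have h2 := (Finset.sum_eq_zero_iff.1 hd) v h1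
      exact hv h2
    subst hs
    rw [map_zero] at hn
    subst hn
    rw [S0, SS_row _ hm, hh_zero]
    change form Q M 1 1 = ev1 M 1
    rw [map_one, show (1 : RS M) = monomial 0 1 from rfl, form_monomial_left]
    unfold Nf
    simp
  | succ d ih =>
    intro s n hd hn
    obtain ⟨v, hv⟩ : ∃ v, v ∈ s.support := by
      by_contra h
      push Not at h
      have h1 : s = 0 := by
        ext v
        by_contra hv
        exact h v (Finsupp.mem_support_iff.2 hv)
      subst h1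
      simp at hd
    have hv1 : 1 ≤ s v := Nat.one_le_iff_ne_zero.2 (Finsupp.mem_support_iff.1 hv)
    obtain ⟨s', hs'⟩ : ∃ s' : Var M →₀ ℕ, s = Finsupp.single v 1 + s' := by
      refine ⟨s - Finsupp.single v 1, ?_⟩
      ext w
      rw [Finsupp.add_apply, Finsupp.tsub_apply]
      by_cases hw : w = v
      · subst hw
        rw [Finsupp.single_eq_same]
        omega
      · rw [Finsupp.single_eq_of_ne hw]
        omega
    subst hs'
    have hd' : (s'.sum fun _ k => k) = d := by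
      rw [Finsupp.sum_add_index' (fun _ => rfl) (fun _ _ _ => rfl), Finsupp.sum_single_index rfl] at hd
      omega
    rw [map_add, Finsupp.weight_single, one_smul] at hn
    have h1 : (monomial (Finsupp.single v 1 + s') (1 : ℂ) : RS M) = X v * monomial s' 1 := by
      rw [X, monomial_mul, mul_one]
    rw [h1, form_X_mul, map_mul, ev1_X]
    by_cases hc : 0 < v.1 ∧ v.2 = 0
    · rw [if_pos hc, one_mul]
      obtain ⟨k, c⟩ := v
      obtain ⟨hk, rfl⟩ := hc
      dsimp only at hk hn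
      rw [Dv_row hQ hk (by omega) hm]
      exact ih s' (n - k) hd' (by omega)
    · rw [if_neg hc, zero_mul, Dv_U0 hQ hc (SS_mem_U0 n _), form_zero_right]

/-- **the form with the complete symmetric function** -/
theorem form_row (hQ : IsUnit (Q : ZMod M)) {m n : ℕ} (hm : 0 < m) {x : RS M}
    (hx : x ∈ weightedHomogeneousSubmodule ℂ (fun v : Var M => v.1) n) :
    form Q M x (S0 Q M n (row m n)) = ev1 M x := by
  classical
  rw [mem_weightedHomogeneousSubmodule] at hx
  rw [x.as_sum, form_sum_left, map_sum]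
  refine Finset.sum_congr rfl fun s hs => ?_
  have h1 : (monomial s (coeff s x) : RS M) = coeff s x • monomial s 1 := by
    rw [smul_monomial, smul_eq_mul, mul_one]
  rw [h1, form_smul_left, map_smul, smul_eq_mul,
    form_row_monomial hQ hm _ s n rfl (hx (mem_support_iff.1 hs))]

end form

/-! ### the character `kap` -/

section kap

variable (Q : ℤ) (M : ℕ) [NeZero M] (p : ℕ)

/-- the character of the ring -/
noncomputable def kap : RS M →ₐ[ℂ] ℂ := by
  classical exact aeval fun v : Var M => if 0 < v.1 ∧ v.2 ∈ Eta Q M p v.1 then ((Eta Q M p v.1).card : ℂ)⁻¹ else 0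

variable {Q M p}

theorem kap_X (v : Var M) [Decidable (0 < v.1 ∧ v.2 ∈ Eta Q M p v.1)] :
    kap Q M p (X v) = if 0 < v.1 ∧ v.2 ∈ Eta Q M p v.1 then ((Eta Q M p v.1).card : ℂ)⁻¹ else 0 := by
  rw [kap, aeval_X]
  congr

theorem ev1_rv (hQ : IsUnit (Q : ZMod M)) (k : ℕ) (c : ZMod M) [Decidable (0 < k ∧ c = 0)] :
    ev1 M (rv Q M k c) = if 0 < k ∧ c = 0 then 1 else 0 := by
  classical
  by_cases h : 0 < k ∧ c = 0
  · obtain ⟨hk, rfl⟩ := h
    rw [if_pos ⟨hk, rfl⟩, rv, if_pos ⟨hk, by unfold TorZ; rw [mul_zero]⟩, canon_zero', ev1_X, if_pos ⟨hk, rfl⟩]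
  · rw [if_neg h, rv]
    split_ifs with h1
    · rw [ev1_X, if_neg]
      rintro ⟨h2, h3⟩
      apply h
      refine ⟨h1.1, ?_⟩
      dsimp only at h3
      have h4 := SameZ.symm' hQ (sameZ_canon (Q := Q) c)
      rw [h3] at h4
      obtain ⟨j, hj⟩ := h4
      rw [hj, mul_zero]
    · rw [map_zero]

theorem ev1_tauP (hQ : IsUnit (Q : ZMod M)) : (ev1 M).comp (tauP Q M p) = kap Q M p := by
  classical
  refine MvPolynomial.algHom_ext fun v => ?_
  rw [AlgHom.comp_apply, tauP, aeval_X, kap_X, map_smul, map_sum]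
  simp only [ev1_rv hQ]
  by_cases hk : 0 < v.1
  · by_cases hv : v.2 ∈ Eta Q M p v.1
    · rw [if_pos ⟨hk, hv⟩, Finset.sum_eq_single (-v.2)]
      · rw [if_pos ⟨hk, by rw [add_neg_cancel]⟩, smul_eq_mul, mul_one]
      · intro η _ hη
        rw [if_neg]
        rintro ⟨-, h⟩
        exact hη (eq_neg_of_add_eq_zero_right h)
      · intro h
        exact absurd (Eta_neg hv) h
    · rw [if_neg (fun h => hv h.2), Finset.sum_eq_zero, smul_zero]
      intro η hη
      rw [if_neg]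
      rintro ⟨-, h⟩
      apply hv
      have h2 := Eta_neg hη
      rwa [← eq_neg_of_add_eq_zero_left h] at h2
  · rw [if_neg (fun h => hk h.1), Finset.sum_eq_zero, smul_zero]
    intro η _
    rw [if_neg (fun h => hk h.1)]

/-- **the value of the form** -/
theorem form_tau_row (hQ : IsUnit (Q : ZMod M)) {m n : ℕ} (hm : 0 < m) {x : RS M} (hx : x ∈ Hom Q M n) :
    form Q M (tauP Q M p x) (S0 Q M n (row m n)) = kap Q M p x := by
  rw [form_row hQ hm (Cfsg.Agent.H112.GLB.tauP_mem_hom p hx).2, ← ev1_tauP hQ]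
  rfl

/-- the power sums of the `p`-characters -/
theorem kap_Pw (hQ : IsUnit (Q : ZMod M)) {c : ZMod M} (hc : ∃ i : ℕ, (p : ZMod M) ^ i * c = 0) {j : ℕ} (hj : 0 < j) :
    kap Q M p (Pw Q M j c) = ((Eta Q M p (j * perZ Q M c)).card : ℂ)⁻¹ := by
  classical
  have h1 : 0 < j * perZ Q M c := Nat.mul_pos hj (perZ_pos hQ c)
  have h2 : canon Q M c ∈ Eta Q M p (j * perZ Q M c) := by
    rw [mem_Eta]
    refine ⟨(torZ_iff _ _).2 ?_, ?_⟩
    · rw [← perZ_of_same hQ (sameZ_canon c)]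
      exact dvd_mul_left _ _
    · obtain ⟨i, hi⟩ := hc
      obtain ⟨l, hl⟩ := sameZ_canon (Q := Q) c
      exact ⟨i, by rw [hl, mul_left_comm, hi, mul_zero]⟩
  rw [Pw, rv, if_pos ⟨h1, (torZ_iff _ c).2 (dvd_mul_left _ _)⟩, kap_X, if_pos ⟨h1, h2⟩]

theorem kap_Pw_pos (hQ : IsUnit (Q : ZMod M)) {c : ZMod M} (hc : ∃ i : ℕ, (p : ZMod M) ^ i * c = 0) {j : ℕ} (hj : 0 < j) :
    ∃ r : ℝ, 0 < r ∧ kap Q M p (Pw Q M j c) = r := by
  refine ⟨((Eta Q M p (j * perZ Q M c)).card : ℝ)⁻¹, ?_, ?_⟩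
  · have h : 0 < (Eta Q M p (j * perZ Q M c)).card := Eta_card_pos _
    positivity
  · rw [kap_Pw hQ hc hj]
    push_cast
    rfl

end kap

/-! ### symmetric functions of complex numbers -/

section sym

theorem map_SS {A B : Type*} [CommRing A] [Algebra ℂ A] [CommRing B] [Algebra ℂ B] (f : A →ₐ[ℂ] B) (P : ℕ → A) {m : ℕ}
    (k : ℕ) (β : Fin m → ℕ) : f (SS P k β) = SS (fun j => f (P j)) k β := by
  have h := ZV_map f.toLinearMap k (fun s => (FM s β : ℂ) • (s.map P).prod)
  change f (SS P k β) = _ at h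
  rw [h]
  refine ZV_congr fun s _ _ => ?_
  rw [map_smul, AlgHom.toLinearMap_apply, map_multiset_prod, Multiset.map_map]
  rfl

variable {P : ℕ → ℂ}

theorem hh_pos (hP : ∀ j, 0 < j → ∃ r : ℝ, 0 < r ∧ P j = r) (k : ℕ) : ∃ r : ℝ, 0 < r ∧ hh P k = r := by
  induction k using Nat.strong_induction_on with
  | _ k ih =>
    rcases Nat.eq_zero_or_pos k with rfl | hk
    · exact ⟨1, one_pos, by rw [hh_zero]; norm_num⟩
    · choose! f hf using hP
      choose! g hg using ih
      have hk' : (k : ℂ) ≠ 0 := by exact_mod_cast hk.ne'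
      refine ⟨(k : ℝ)⁻¹ * ∑ r ∈ Finset.Icc 1 k, f r * g (k - r), ?_, ?_⟩
      · refine mul_pos (inv_pos.2 (by exact_mod_cast hk)) (Finset.sum_pos (fun r hr => ?_) ⟨1, Finset.mem_Icc.2 ⟨le_rfl, hk⟩⟩)
        rw [Finset.mem_Icc] at hr
        exact mul_pos (hf r (by omega)).1 (hg (k - r) (by omega)).1
      · have h := hh_rec P k
        rw [smul_eq_mul] at h
        have h1 : hh P k = (k : ℂ)⁻¹ * ∑ r ∈ Finset.Icc 1 k, P r * hh P (k - r) := by
          rw [← h, inv_mul_cancel_left₀ hk']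
        rw [h1]
        push_cast
        congr 1
        refine Finset.sum_congr rfl fun r hr => ?_
        rw [Finset.mem_Icc] at hr
        rw [(hf r (by omega)).2, (hg (k - r) (by omega)).2]

theorem sum_Icc_sub (g : ℕ → ℂ) (k : ℕ) : ∑ r ∈ Finset.Icc 1 k, g (k - r) = ∑ i ∈ Finset.range k, g i := by
  refine Finset.sum_bij' (fun r _ => k - r) (fun i _ => k - i) ?_ ?_ ?_ ?_ ?_
  · intro r hr
    rw [Finset.mem_Icc] at hr
    rw [Finset.mem_range]
    omega
  · intro i hi
    rw [Finset.mem_range] at hi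
    rw [Finset.mem_Icc]
    omega
  · intro r hr
    rw [Finset.mem_Icc] at hr
    omega
  · intro i hi
    rw [Finset.mem_range] at hi
    omega
  · intro r _
    rfl

theorem hh_const (t : ℂ) (k : ℕ) : (k : ℂ) * hh (fun _ => t) k = t * ∑ i ∈ Finset.range k, hh (fun _ => t) i := by
  rw [← smul_eq_mul, hh_rec, ← Finset.mul_sum, sum_Icc_sub (fun i => hh (fun _ => t) i)]

variable {p : ℕ} {t : ℂ}

theorem hh_step (hp : 2 ≤ p) (hP : ∀ r, 0 < r → r ≤ p + 1 → r ≠ p → P r = t) {k : ℕ} (hk : k ≤ p + 1) :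
    (k : ℂ) * hh P k = t * ∑ i ∈ Finset.range k, hh P i + if p ≤ k then (P p - t) * hh P (k - p) else 0 := by
  rw [← smul_eq_mul, hh_rec, ← sum_Icc_sub (fun i => hh P i), Finset.mul_sum]
  have h1 : ∀ r ∈ Finset.Icc 1 k, P r * hh P (k - r) = t * hh P (k - r) + if r = p then (P p - t) * hh P (k - p) else 0 := by
    intro r hr
    rw [Finset.mem_Icc] at hr
    by_cases h : r = p
    · rw [if_pos h, h]
      ring
    · rw [if_neg h, hP r (by omega) (by omega) h, add_zero]
  rw [Finset.sum_congr rfl h1, Finset.sum_add_distrib]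
  congr 1
  rw [Finset.sum_ite_eq']
  by_cases h : p ≤ k
  · rw [if_pos h, if_pos (Finset.mem_Icc.2 ⟨by omega, h⟩)]
  · rw [if_neg h, if_neg (fun h' => h (Finset.mem_Icc.1 h').2)]

theorem hh_lt (hp : 2 ≤ p) (hP : ∀ r, 0 < r → r ≤ p + 1 → r ≠ p → P r = t) {k : ℕ} (hk : k < p) :
    hh P k = hh (fun _ => t) k := by
  induction k using Nat.strong_induction_on with
  | _ k ih =>
    rcases Nat.eq_zero_or_pos k with rfl | h0
    · rw [hh_zero, hh_zero]
    · have hk' : (k : ℂ) ≠ 0 := by exact_mod_cast h0.ne'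
      apply mul_left_cancel₀ hk'
      rw [hh_step hp hP (by omega), if_neg (by omega), add_zero, hh_const]
      congr 1
      refine Finset.sum_congr rfl fun i hi => ?_
      rw [Finset.mem_range] at hi
      exact ih i hi (by omega)

theorem hk_val (hp : 2 ≤ p) (hP : ∀ r, 0 < r → r ≤ p + 1 → r ≠ p → P r = t) :
    ((p : ℂ) + 1) * (P 1 * hh P p - hh P (p + 1)) = p * hh (fun _ => t) p * (t - 1) := by
  have h1 := hh_step hp hP (k := p) (by omega)
  rw [if_pos le_rfl, Nat.sub_self, hh_zero, mul_one] at h1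
  have h2 := hh_step hp hP (k := p + 1) le_rfl
  rw [if_pos (by omega), show p + 1 - p = 1 by omega, Finset.sum_range_succ] at h2
  have h3 : hh P 1 = t := by
    rw [hh_lt hp hP (by omega)]
    have h := hh_const t 1
    rw [Nat.cast_one, one_mul, Finset.sum_range_one, hh_zero, mul_one] at h
    exact h
  have h4 := hh_const t p
  have h5 : ∑ i ∈ Finset.range p, hh P i = ∑ i ∈ Finset.range p, hh (fun _ => t) i :=
    Finset.sum_congr rfl fun i hi => hh_lt hp hP (Finset.mem_range.1 hi)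
  rw [h5] at h1 h2
  rw [← h4] at h1
  rw [mul_add, ← h4, h3] at h2
  rw [hP 1 one_pos (by omega) (by omega)]
  push_cast at h2
  linear_combination t * h1 - h2

end sym

/-! ### the partition `(p, 1)` -/

section hk

/-- the tuple of the partition `(p, 1)` -/
def hk (m p : ℕ) : Fin m → ℕ := fun i => (i : ℕ) + (if (i : ℕ) + 1 = m then p else 0) + if (i : ℕ) + 2 = m then 1 else 0

theorem row_mono (m k : ℕ) : StrictMono (row m k) := by
  intro i j hij
  have h : (i : ℕ) < j := hij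
  unfold row
  have := j.2
  split_ifs <;> omega

theorem hk_mono {m p : ℕ} (hp : 0 < p) : StrictMono (hk m p) := by
  intro i j hij
  have h : (i : ℕ) < j := hij
  unfold hk
  have := j.2
  split_ifs <;> omega

theorem sum_row' {m : ℕ} (hm : 0 < m) (k : ℕ) : bsz (row m k) = k := by
  unfold bsz
  rw [Cfsg.Agent.H794.XZ.sum_row hm, Nat.add_sub_cancel]

theorem up_row_last {m p : ℕ} (hm : 0 < m) : up (row m p) ⟨m - 1, by omega⟩ 1 = row m (p + 1) := by
  funext i
  by_cases hi : i = ⟨m - 1, by omega⟩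
  · subst hi
    rw [up_self, row, row]
    simp only
    rw [if_pos (by omega), if_pos (by omega)]
    omega
  · have h1 : ¬ (i : ℕ) + 1 = m := fun h => hi (Fin.ext (by simp only; omega))
    rw [up_ne _ _ hi, row, row, if_neg h1, if_neg h1]

theorem up_row_hk {m p : ℕ} (hm : 2 ≤ m) : up (row m p) ⟨m - 2, by omega⟩ 1 = hk m p := by
  funext i
  by_cases hi : i = ⟨m - 2, by omega⟩
  · subst hi
    rw [up_self, row, hk]
    simp only
    rw [if_neg (by omega), if_pos (by omega)]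
  · have h1 : ¬ (i : ℕ) + 2 = m := fun h => hi (Fin.ext (by simp only; omega))
    rw [up_ne _ _ hi, row, hk, if_neg h1, add_zero]

theorem sum_hk {m p : ℕ} (hm : 2 ≤ m) : bsz (hk m p) = p + 1 := by
  unfold bsz
  rw [← up_row_hk hm, sum_up, Cfsg.Agent.H794.XZ.sum_row (by omega)]
  omega

theorem SS_hk {A : Type*} [CommRing A] [Algebra ℂ A] (P : ℕ → A) {m p : ℕ} (hp : 0 < p) (hm : p + 1 ≤ m) :
    SS P (p + 1) (hk m p) = P 1 * hh P p - hh P (p + 1) := by
  have h := mul_SS P one_pos hm (row m p)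
  rw [Finset.sum_eq_add (⟨m - 1, by omega⟩ : Fin m) ⟨m - 2, by omega⟩ ?_ ?_ ?_ ?_, up_row_last (by omega),
    up_row_hk (by omega), SS_row _ (by omega), SS_row _ (by omega)] at h
  · rw [h, add_sub_cancel_left]
  · intro h1
    have h2 := congrArg Fin.val h1
    simp only at h2
    omega
  · rintro j - ⟨hj1, hj2⟩
    have e1 : (j : ℕ) + 1 ≠ m := fun h => hj1 (Fin.ext (by simp only; omega))
    have e2 : (j : ℕ) + 2 ≠ m := fun h => hj2 (Fin.ext (by simp only; omega))
    refine (SS_alt P (p + 1)).eq_zero_of_not_injective two_torsion_alg fun hinj => ?_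
    have hj := j.2
    have h3 : (⟨(j : ℕ) + 1, by omega⟩ : Fin m) = j := by
      apply hinj
      have h4 : (⟨(j : ℕ) + 1, by omega⟩ : Fin m) ≠ j := fun h5 => by
        have := congrArg Fin.val h5
        simp only at this
        omega
      rw [up_self, up_ne _ _ h4, row, row]
      simp only
      rw [if_neg (by omega), if_neg e1]
      omega
    have h6 := congrArg Fin.val h3
    simp only at h6
    omega
  · intro h1
    exact absurd (Finset.mem_univ _) h1
  · intro h1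
    exact absurd (Finset.mem_univ _) h1

end hk

/-! ### the values at the two labels -/

section values

variable {Q : ℤ} {M : ℕ} [NeZero M] {p : ℕ}

/-- the number of `p`-characters does not change when the level is multiplied by a number prime to `p` -/
theorem Eta_mul_eq (hp : p.Prime) {k j : ℕ} (hk : (Q : ZMod p) ^ k = 1) (hj : ¬ p ∣ j) :
    Eta Q M p (j * k) = Eta Q M p k := by
  have := Fact.mk hp
  ext η
  rw [mem_Eta, mem_Eta]
  constructor
  · rintro ⟨h1, i, h2⟩
    refine ⟨?_, i, h2⟩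
    obtain ⟨S, hS⟩ : ∃ S : ℤ, S = ∑ l ∈ Finset.range j, (Q ^ k) ^ l := ⟨_, rfl⟩
    have h3 : (Q ^ k - 1) * S = Q ^ (j * k) - 1 := by
      rw [hS, mul_geom_sum, ← pow_mul, mul_comm k j]
    have h4 : ¬ (p : ℤ) ∣ S := by
      rw [← ZMod.intCast_zmod_eq_zero_iff_dvd, hS]
      push_cast
      rw [hk]
      simp only [one_pow, Finset.sum_const, Finset.card_range, nsmul_eq_mul, mul_one]
      rw [ZMod.natCast_eq_zero_iff]
      exact hj
    have h5 : IsCoprime ((p : ℤ) ^ i) S := ((Nat.prime_iff_prime_int.1 hp).coprime_iff_not_dvd.2 h4).pow_left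
    obtain ⟨a, b, hab⟩ := h5
    unfold TorZ at h1 ⊢
    have h6 := congrArg (fun z : ℤ => (z : ZMod M)) hab
    have h7 := congrArg (fun z : ℤ => (z : ZMod M)) h3
    push_cast at h6 h7
    calc ((Q : ZMod M) ^ k - 1) * η = (a * (p : ZMod M) ^ i + b * S) * (((Q : ZMod M) ^ k - 1) * η) := by
          rw [h6, one_mul]
      _ = a * ((Q : ZMod M) ^ k - 1) * ((p : ZMod M) ^ i * η) + b * ((((Q : ZMod M) ^ k - 1) * S) * η) := by ring
      _ = 0 := by rw [h2, h7, h1, mul_zero, mul_zero, add_zero]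
  · rintro ⟨h1, i, h2⟩
    exact ⟨(torZ_iff _ _).2 (dvd_mul_of_dvd_right ((torZ_iff _ _).1 h1) _), i, h2⟩

omit [NeZero M] in
theorem ppow_of_tors {c : ZMod M} (hpc : p • c = 0) : ∃ i : ℕ, (p : ZMod M) ^ i * c = 0 :=
  ⟨1, by rw [pow_one, ← nsmul_eq_mul, hpc]⟩

theorem kap_row_pos (hQ : IsUnit (Q : ZMod M)) {m : ℕ} (hm : 0 < m) {c : ZMod M} (hc : ∃ i : ℕ, (p : ZMod M) ^ i * c = 0)
    (k : ℕ) : ∃ r : ℝ, 0 < r ∧ kap Q M p (SS (fun j => Pw Q M j c) k (row m k)) = r := by
  rw [map_SS, SS_row _ hm]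
  exact hh_pos (fun j hj => kap_Pw_pos hQ hc hj) k

theorem kap_S0_ne (hQ : IsUnit (Q : ZMod M)) {m : ℕ} (hm : 0 < m) (n : ℕ) : kap Q M p (S0 Q M n (row m n)) ≠ 0 := by
  obtain ⟨r, hr, h⟩ := kap_row_pos (p := p) hQ hm (c := (0 : ZMod M)) ⟨0, mul_zero _⟩ n
  rw [S0, h]
  exact_mod_cast hr.ne'

/-- **(A)** the partition `(k)` on the orbit of a `p`-character -/
theorem kap_row_ne (hQ : IsUnit (Q : ZMod M)) {m m' : ℕ} (hm : 0 < m) (hm' : 0 < m') {c : ZMod M}
    (hc : ∃ i : ℕ, (p : ZMod M) ^ i * c = 0) (k n : ℕ) :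
    kap Q M p (SS (fun j => Pw Q M j c) k (row m k) * S0 Q M n (row m' n)) ≠ 0 := by
  obtain ⟨r, hr, h⟩ := kap_row_pos (p := p) hQ hm hc k
  rw [map_mul, h]
  exact mul_ne_zero (by exact_mod_cast hr.ne') (kap_S0_ne hQ hm' n)

theorem kap_hk_ne' (hp : p.Prime) (hQ : IsUnit (Q : ZMod M)) (hQp : IsUnit (Q : ZMod p)) {m : ℕ} (hm : p + 1 ≤ m)
    {c : ZMod M} (hc : c ≠ 0) (hpc : p • c = 0) :
    kap Q M p (SS (fun j => Pw Q M j c) (p + 1) (hk m p)) ≠ 0 := by
  classical
  have := Fact.mk hp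
  have hper := H139.XZ.perZ_tors hp hQ hQp hc hpc
  have hpp := ppow_of_tors hpc
  rw [map_SS, SS_hk _ hp.pos hm]
  obtain ⟨t, ht⟩ : ∃ t : ℂ, t = ((Eta Q M p (perZ Q M c)).card : ℂ)⁻¹ := ⟨_, rfl⟩
  have hP : ∀ r, 0 < r → r ≤ p + 1 → r ≠ p → kap Q M p (Pw Q M r c) = t := by
    intro r h1 h2 h3
    rw [kap_Pw hQ hpp h1, Eta_mul_eq hp, ht]
    · rw [hper]
      exact pow_orderOf_eq_one _
    · intro h4
      obtain ⟨l, rfl⟩ := h4
      have h5 := hp.two_le
      have h6 : l ≠ 0 := by rintro rfl; omega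
      have h7 : l ≠ 1 := by rintro rfl; omega
      have h8 : p * 2 ≤ p * l := Nat.mul_le_mul_left _ (by omega)
      omega
  have hcard : 1 < (Eta Q M p (perZ Q M c)).card := by
    rw [Finset.one_lt_card]
    exact ⟨0, zero_mem_Eta _, c, mem_Eta.2 ⟨(torZ_iff _ _).2 dvd_rfl, hpp⟩, hc.symm⟩
  have hT : hh (fun _ => t) p ≠ 0 := by
    obtain ⟨r, hr, h⟩ := hh_pos (P := fun _ => t) (fun j _ => ⟨((Eta Q M p (perZ Q M c)).card : ℝ)⁻¹, by positivity, by
      rw [ht]; push_cast; rfl⟩) p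
    rw [h]
    exact_mod_cast hr.ne'
  have ht1 : t - 1 ≠ 0 := by
    rw [ht, sub_ne_zero]
    intro h
    rw [inv_eq_one] at h
    have h1 : (Eta Q M p (perZ Q M c)).card = 1 := by exact_mod_cast h
    omega
  have h := hk_val hp.two_le hP
  intro h0
  rw [h0, mul_zero] at h
  have hp0 : (p : ℂ) ≠ 0 := by exact_mod_cast hp.ne_zero
  exact mul_ne_zero (mul_ne_zero hp0 hT) ht1 h.symm

/-- **(B)** the partition `(p, 1)` on the orbit of a label of order `p` -/
theorem kap_hk_ne (hp : p.Prime) (hQ : IsUnit (Q : ZMod M)) (hQp : IsUnit (Q : ZMod p)) {m m' : ℕ} (hm : p + 1 ≤ m)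
    (hm' : 0 < m') {c : ZMod M} (hc : c ≠ 0) (hpc : p • c = 0) (n : ℕ) :
    kap Q M p (SS (fun j => Pw Q M j c) (p + 1) (hk m p) * S0 Q M n (row m' n)) ≠ 0 := by
  rw [map_mul]
  exact mul_ne_zero (kap_hk_ne' hp hQ hQp hm hc hpc) (kap_S0_ne hQ hm' n)

/-- **(A)** for the label `two` -/
theorem form_two_row_ne (hQ : IsUnit (Q : ZMod M)) {m m' k n' n : ℕ} (hm : 0 < m) (hm' : 0 < m') {c : ZMod M} (hc : c ≠ 0)
    (hpc : p • c = 0) (hn : n' + perZ Q M c * bsz (row m k) = n) :
    form Q M (tauP Q M p (SchP Q M (H139.XZ.two hQ (row_mono m n') (sum_row' hm n') c hc (row_mono m k) hn).t))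
      (S0 Q M n (row m' n)) ≠ 0 := by
  rw [form_tau_row hQ hm' (Cfsg.Agent.H112.GLB.schP_mem_hom hQ _), H139.XZ.SchP_two, sum_row' hm]
  refine kap_row_ne hQ hm hm ?_ k n'
  exact ppow_of_tors (H139.XZ.smul_same (sameZ_canon c) hpc)

/-- **(B)** for the label `two` -/
theorem form_two_hk_ne (hp : p.Prime) (hQ : IsUnit (Q : ZMod M)) (hQp : IsUnit (Q : ZMod p)) {m m' n' n : ℕ}
    (hm : p + 1 ≤ m) (hm' : 0 < m') {c : ZMod M} (hc : c ≠ 0) (hpc : p • c = 0)
    (hn : n' + perZ Q M c * bsz (hk m p) = n) :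
    form Q M (tauP Q M p (SchP Q M (H139.XZ.two hQ (row_mono m n') (sum_row' (by omega) n') c hc (hk_mono hp.pos) hn).t))
      (S0 Q M n (row m' n)) ≠ 0 := by
  have h2 : 2 ≤ m := by have := hp.two_le; omega
  rw [form_tau_row hQ hm' (Cfsg.Agent.H112.GLB.schP_mem_hom hQ _), H139.XZ.SchP_two, sum_hk h2]
  exact kap_hk_ne hp hQ hQp hm (by omega) (H139.XZ.sameZ_ne (sameZ_canon c) hQ hc)
    (H139.XZ.smul_same (sameZ_canon c) hpc) n'

end values

end Cfsg.Agent.H531.HT
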